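import Mathlib

set_option linter.style.haveILetI false
set_option linter.unusedVariables false
set_option linter.unusedSectionVars false
set_option autoImplicit false
set_option backward.isDefEq.respectTransparency.types false
set_option synthInstance.maxHeartbeats 400000
set_option maxHeartbeats 800000

open scoped NNReal

namespace Groth.Agent.Helper7.AnDense

/-- An algebra homomorphism to `ℂ` is determined by its kernel. -/
theorem algHom_eq_of_ker_le {B : Type*} [CommRing B] [Algebra ℂ B] (y z : B →ₐ[ℂ] ℂ)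
    (h : ∀ b, y b = 0 → z b = 0) : y = z := by
  ext b
  have h1 : y (b - algebraMap ℂ B (y b)) = 0 := by
    rw [map_sub, AlgHom.commutes]
    simp
  have h2 := h _ h1
  rw [map_sub, AlgHom.commutes] at h2
  have h3 : z b = y b := by
    have := sub_eq_zero.mp h2
    simpa using this
  exact h3.symm

/-- Polynomials which do not vanish identically do not vanish at points arbitrarily close to a
given point. -/
theorem exists_near_eval_ne_zero {d : ℕ} (h : MvPolynomial (Fin d) ℂ) (hh : h ≠ 0)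
    (c₀ : Fin d → ℂ) (η : ℝ) (hη : 0 < η) :
    ∃ c : Fin d → ℂ, dist c c₀ < η ∧ MvPolynomial.eval c h ≠ 0 := by
  classical
  obtain ⟨c₁, hc₁⟩ : ∃ c₁ : Fin d → ℂ, MvPolynomial.eval c₁ h ≠ 0 := by
    by_contra hcon
    push Not at hcon
    apply hh
    apply MvPolynomial.funext
    intro c
    rw [hcon c, map_zero]
  let q : Polynomial ℂ := MvPolynomial.aeval
    (fun i => Polynomial.C (c₀ i) + Polynomial.X * Polynomial.C (c₁ i - c₀ i)) h
  have hq : ∀ s : ℂ, q.eval s = MvPolynomial.eval (fun i => c₀ i + s * (c₁ i - c₀ i)) h := by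
    intro s
    have h1 : q.eval s = (Polynomial.evalRingHom s) (MvPolynomial.eval₂ Polynomial.C
        (fun i => Polynomial.C (c₀ i) + Polynomial.X * Polynomial.C (c₁ i - c₀ i)) h) := rfl
    rw [h1, MvPolynomial.eval₂_comp_left]
    have h2 : (Polynomial.evalRingHom s).comp Polynomial.C = RingHom.id ℂ := by
      ext z
      simp
    rw [h2]
    have h3 : (⇑(Polynomial.evalRingHom s) ∘ fun i : Fin d =>
        Polynomial.C (c₀ i) + Polynomial.X * Polynomial.C (c₁ i - c₀ i)) =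
        fun i => c₀ i + s * (c₁ i - c₀ i) := by
      funext i
      simp
    rw [h3]
    rfl
  have hq1 : q.eval 1 ≠ 0 := by
    rw [hq 1]
    have : (fun i => c₀ i + 1 * (c₁ i - c₀ i)) = c₁ := by
      funext i
      ring
    rw [this]
    exact hc₁
  have hq0 : q ≠ 0 := by
    intro h0
    apply hq1
    rw [h0, Polynomial.eval_zero]
  have hfin : {s : ℂ | q.IsRoot s}.Finite := Polynomial.finite_setOfPred_isRoot hq0
  set t : ℝ := η / (‖c₁ - c₀‖ + 1) with ht
  have hden : 0 < ‖c₁ - c₀‖ + 1 := by positivity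
  have htpos : 0 < t := div_pos hη hden
  have hinf : (Metric.ball (0 : ℂ) t).Infinite :=
    infinite_of_mem_nhds (0 : ℂ) (Metric.ball_mem_nhds 0 htpos)
  obtain ⟨s, hs, hsr⟩ := (hinf.sdiff hfin).nonempty
  refine ⟨fun i => c₀ i + s * (c₁ i - c₀ i), ?_, ?_⟩
  · have h1 : (fun i => c₀ i + s * (c₁ i - c₀ i)) - c₀ = s • (c₁ - c₀) := by
      funext i
      simp
    rw [dist_eq_norm, h1, norm_smul]
    have hs' : ‖s‖ < t := by simpa using hs
    calc ‖s‖ * ‖c₁ - c₀‖ ≤ ‖s‖ * (‖c₁ - c₀‖ + 1) := by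
          apply mul_le_mul_of_nonneg_left _ (norm_nonneg _)
          linarith
      _ < t * (‖c₁ - c₀‖ + 1) := mul_lt_mul_of_pos_right hs' hden
      _ = η := by rw [ht]; field_simp
  · rw [← hq s]
    exact hsr

/-- A monic complex polynomial with small constant coefficient has a small root. -/
theorem exists_small_root (q : Polynomial ℂ) (hq : q.Monic) (hn : 0 < q.natDegree) (t : ℝ)
    (ht : 0 < t) (h0 : ‖q.coeff 0‖ < t ^ q.natDegree) : ∃ r, q.eval r = 0 ∧ ‖r‖ < t := by
  by_contra hcon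
  push Not at hcon
  have hsp : q.Splits := IsAlgClosed.splits q
  have h1 := hsp.coeff_zero_eq_prod_roots_of_monic hq
  have h2 : ∀ s : Multiset ℂ, (∀ r ∈ s, t ≤ ‖r‖) → t ^ Multiset.card s ≤ ‖s.prod‖ := by
    intro s
    induction s using Multiset.induction_on with
    | empty => intro _; simp
    | cons a s ih =>
      intro hs
      rw [Multiset.card_cons, Multiset.prod_cons, norm_mul, pow_succ, mul_comm]
      apply mul_le_mul (hs a (Multiset.mem_cons_self a s))
        (ih (fun r hr => hs r (Multiset.mem_cons_of_mem hr))) (by positivity) (norm_nonneg _)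
  have h3 : t ^ Multiset.card q.roots ≤ ‖q.roots.prod‖ := by
    apply h2
    intro r hr
    apply hcon r
    exact (Polynomial.mem_roots hq.ne_zero).mp hr
  rw [← hsp.natDegree_eq_card_roots] at h3
  rw [h1, norm_mul, norm_pow, norm_neg, norm_one, one_pow, one_mul] at h0
  exact absurd h3 (not_le.mpr h0)


section PAlg

variable {A : Type} [CommRing A] [Algebra ℂ A] {d : ℕ}
  [Algebra (MvPolynomial (Fin d) ℂ) A] [IsScalarTower ℂ (MvPolynomial (Fin d) ℂ) A]

/-- An algebra homomorphism to `ℂ` restricted to the polynomial subring is evaluation at a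
point. -/
theorem algHom_algebraMap_eq_eval (y : A →ₐ[ℂ] ℂ) (p : MvPolynomial (Fin d) ℂ) :
    y (algebraMap (MvPolynomial (Fin d) ℂ) A p) =
      MvPolynomial.eval (fun i => y (algebraMap (MvPolynomial (Fin d) ℂ) A (MvPolynomial.X i))) p := by
  have h : (y.comp (IsScalarTower.toAlgHom ℂ (MvPolynomial (Fin d) ℂ) A)) =
      MvPolynomial.aeval
        (fun i => y (algebraMap (MvPolynomial (Fin d) ℂ) A (MvPolynomial.X i))) := by
    apply MvPolynomial.algHom_ext
    intro i
    simp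
  have h2 := congrArg (fun g : MvPolynomial (Fin d) ℂ →ₐ[ℂ] ℂ => g p) h
  simp only [AlgHom.comp_apply, IsScalarTower.coe_toAlgHom'] at h2
  rw [h2]
  rfl

/-- Evaluating a polynomial relation at a complex point. -/
theorem algHom_aeval (y : A →ₐ[ℂ] ℂ) (a : A) (G : Polynomial (MvPolynomial (Fin d) ℂ)) :
    y (Polynomial.aeval a G) =
      (G.map (MvPolynomial.eval
        (fun i => y (algebraMap (MvPolynomial (Fin d) ℂ) A (MvPolynomial.X i))))).eval (y a) := by
  rw [Polynomial.eval_map, Polynomial.aeval_def]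
  have h := Polynomial.hom_eval₂ G (algebraMap (MvPolynomial (Fin d) ℂ) A) (y : A →+* ℂ) a
  have h' : y (Polynomial.eval₂ (algebraMap (MvPolynomial (Fin d) ℂ) A) a G) =
      Polynomial.eval₂ ((y : A →+* ℂ).comp (algebraMap (MvPolynomial (Fin d) ℂ) A)) (y a) G := h
  rw [h']
  congr 1
  refine RingHom.ext (fun p => ?_)
  exact algHom_algebraMap_eq_eval y p

variable [Module.Finite (MvPolynomial (Fin d) ℂ) A]

/-- Values of complex points over a bounded region of the base are bounded. -/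
theorem exists_bound (a : A) (C : ℝ) :
    ∃ R : ℝ, ∀ y : A →ₐ[ℂ] ℂ,
      (∀ i, ‖y (algebraMap (MvPolynomial (Fin d) ℂ) A (MvPolynomial.X i))‖ ≤ C) → ‖y a‖ ≤ R := by
  classical
  haveI : Algebra.IsIntegral (MvPolynomial (Fin d) ℂ) A :=
    Algebra.IsIntegral.of_finite (MvPolynomial (Fin d) ℂ) A
  obtain ⟨G, hGm, hG⟩ := (Algebra.IsIntegral.isIntegral (R := MvPolynomial (Fin d) ℂ) a)
  have hG' : Polynomial.aeval a G = 0 := hG
  -- a uniform bound on the coefficients
  have hcont : Continuous (fun c : Fin d → ℂ =>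
      ∑ j ∈ Finset.range G.natDegree, ‖MvPolynomial.eval c (G.coeff j)‖) := by
    apply continuous_finsetSum
    intro j _
    exact (MvPolynomial.continuous_eval (G.coeff j)).norm
  obtain ⟨M, hM⟩ := (isCompact_closedBall (0 : Fin d → ℂ) (max C 0)).exists_bound_of_continuousOn
    hcont.continuousOn
  refine ⟨max M 0 + 1, fun y hy => ?_⟩
  set c : Fin d → ℂ := fun i => y (algebraMap (MvPolynomial (Fin d) ℂ) A (MvPolynomial.X i))
    with hc
  have hcK : c ∈ Metric.closedBall (0 : Fin d → ℂ) (max C 0) := by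
    rw [mem_closedBall_zero_iff, pi_norm_le_iff_of_nonneg (le_max_right _ _)]
    intro i
    exact (hy i).trans (le_max_left _ _)
  have hMc := hM c hcK
  rw [Real.norm_eq_abs, abs_of_nonneg (Finset.sum_nonneg (fun j _ => norm_nonneg _))] at hMc
  have hroot : ((G.map (MvPolynomial.eval c)).eval (y a)) = 0 := by
    rw [← algHom_aeval y a G, hG', map_zero]
  have hmonic : (G.map (MvPolynomial.eval c)).Monic := hGm.map _
  have hlt := Polynomial.IsRoot.norm_lt_cauchyBound hmonic.ne_zero hroot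
  have hcb : (Polynomial.cauchyBound (G.map (MvPolynomial.eval c)) : ℝ) ≤ max M 0 + 1 := by
    unfold Polynomial.cauchyBound
    rw [hmonic.leadingCoeff, nnnorm_one, div_one, NNReal.coe_add, NNReal.coe_one]
    apply add_le_add _ le_rfl
    have hsup : (Finset.range (G.map (MvPolynomial.eval c)).natDegree).sup
        (fun x => ‖(G.map (MvPolynomial.eval c)).coeff x‖₊) ≤ Real.toNNReal (max M 0) := by
      apply Finset.sup_le
      intro j hj
      rw [hGm.natDegree_map (MvPolynomial.eval c)] at hj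
      rw [← NNReal.coe_le_coe, coe_nnnorm, Real.coe_toNNReal _ (le_max_right _ _), Polynomial.coeff_map]
      refine le_trans ?_ (hMc.trans (le_max_left _ _))
      exact Finset.single_le_sum (f := fun j => ‖MvPolynomial.eval c (G.coeff j)‖)
        (fun j _ => norm_nonneg _) hj
    have h5 := NNReal.coe_le_coe.mpr hsup
    rw [Real.coe_toNNReal _ (le_max_right _ _)] at h5
    exact h5
  have : ‖y a‖ < max M 0 + 1 := lt_of_lt_of_le (by exact_mod_cast hlt) hcb
  exact this.le

/-- Roots of the specialized minimal polynomial are values of complex points. -/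
theorem exists_algHom_of_root [IsDomain A] (hft : Algebra.FiniteType ℂ A)
    (hinj : Function.Injective (algebraMap (MvPolynomial (Fin d) ℂ) A)) (f : A)
    (c : Fin d → ℂ) (r : ℂ)
    (hr : ((minpoly (MvPolynomial (Fin d) ℂ) f).map (MvPolynomial.eval c)).eval r = 0) :
    ∃ y : A →ₐ[ℂ] ℂ,
      (∀ i, y (algebraMap (MvPolynomial (Fin d) ℂ) A (MvPolynomial.X i)) = c i) ∧ y f = r := by
  classical
  haveI : Algebra.IsIntegral (MvPolynomial (Fin d) ℂ) A :=
    Algebra.IsIntegral.of_finite (MvPolynomial (Fin d) ℂ) A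
  have hf : IsIntegral (MvPolynomial (Fin d) ℂ) f := Algebra.IsIntegral.isIntegral f
  haveI : FaithfulSMul (MvPolynomial (Fin d) ℂ) A :=
    (faithfulSMul_iff_algebraMap_injective (MvPolynomial (Fin d) ℂ) A).mpr hinj
  haveI : Module.IsTorsionFree (MvPolynomial (Fin d) ℂ) A := inferInstance
  let ev : AdjoinRoot (minpoly (MvPolynomial (Fin d) ℂ) f) →+* ℂ :=
    AdjoinRoot.lift (MvPolynomial.eval c) r (by rw [Polynomial.eval₂_eq_eval_map]; exact hr)
  let e := minpoly.equivAdjoin hf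
  let ψ : Algebra.adjoin (MvPolynomial (Fin d) ℂ) ({f} : Set A) →+* ℂ :=
    ev.comp (e.symm : Algebra.adjoin (MvPolynomial (Fin d) ℂ) ({f} : Set A) →+*
      AdjoinRoot (minpoly (MvPolynomial (Fin d) ℂ) f))
  have hψP : ∀ p : MvPolynomial (Fin d) ℂ,
      ψ (algebraMap (MvPolynomial (Fin d) ℂ)
        (Algebra.adjoin (MvPolynomial (Fin d) ℂ) ({f} : Set A)) p) = MvPolynomial.eval c p := by
    intro p
    show ev (e.symm (algebraMap _ _ p)) = _
    rw [AlgEquiv.commutes]
    exact AdjoinRoot.lift_of _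
  have hψf : ψ ⟨f, Algebra.self_mem_adjoin_singleton (MvPolynomial (Fin d) ℂ) f⟩ = r := by
    show ev (e.symm ⟨f, _⟩) = r
    have h1 : e (AdjoinRoot.root (minpoly (MvPolynomial (Fin d) ℂ) f)) =
        ⟨f, Algebra.self_mem_adjoin_singleton (MvPolynomial (Fin d) ℂ) f⟩ := by
      apply Subtype.ext
      exact AdjoinRoot.Minpoly.coe_toAdjoin_mk_X
    rw [← h1, AlgEquiv.symm_apply_apply]
    exact AdjoinRoot.lift_root _
  have hψC : ∀ z : ℂ, ψ (algebraMap ℂ
      (Algebra.adjoin (MvPolynomial (Fin d) ℂ) ({f} : Set A)) z) = z := by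
    intro z
    have h1 : algebraMap ℂ (Algebra.adjoin (MvPolynomial (Fin d) ℂ) ({f} : Set A)) z =
        algebraMap (MvPolynomial (Fin d) ℂ) (Algebra.adjoin (MvPolynomial (Fin d) ℂ) ({f} : Set A))
          (MvPolynomial.C z) := by
      apply Subtype.ext
      show algebraMap ℂ A z = algebraMap (MvPolynomial (Fin d) ℂ) A (MvPolynomial.C z)
      rw [IsScalarTower.algebraMap_apply ℂ (MvPolynomial (Fin d) ℂ) A]
      rfl
    rw [h1, hψP, MvPolynomial.eval_C]
  have hψsurj : Function.Surjective ψ := fun z => ⟨_, hψC z⟩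
  haveI h𝔫 : (RingHom.ker ψ).IsMaximal := RingHom.ker_isMaximal_of_surjective ψ hψsurj
  haveI : Algebra.IsIntegral (Algebra.adjoin (MvPolynomial (Fin d) ℂ) ({f} : Set A)) A :=
    Algebra.IsIntegral.tower_top (R := MvPolynomial (Fin d) ℂ)
  obtain ⟨𝔐, h𝔐max, h𝔐⟩ := Ideal.exists_ideal_over_maximal_of_isIntegral (S := A)
    (RingHom.ker ψ) (by
      have h0 : RingHom.ker (algebraMap (Algebra.adjoin (MvPolynomial (Fin d) ℂ) ({f} : Set A)) A)
          = ⊥ := (RingHom.injective_iff_ker_eq_bot _).mp Subtype.val_injective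
      rw [h0]
      exact bot_le)
  haveI := h𝔐max
  letI : Field (A ⧸ 𝔐) := Ideal.Quotient.field 𝔐
  haveI : Algebra.FiniteType ℂ (A ⧸ 𝔐) :=
    Algebra.FiniteType.of_surjective (Ideal.Quotient.mkₐ ℂ 𝔐) (Ideal.Quotient.mkₐ_surjective ℂ 𝔐)
  haveI : Module.Finite ℂ (A ⧸ 𝔐) := finite_of_finite_type_of_isJacobsonRing ℂ (A ⧸ 𝔐)
  haveI : Algebra.IsIntegral ℂ (A ⧸ 𝔐) := Algebra.IsIntegral.of_finite ℂ (A ⧸ 𝔐)
  have hbij : Function.Bijective (algebraMap ℂ (A ⧸ 𝔐)) :=
    IsAlgClosed.algebraMap_bijective_of_isIntegral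
  let e₂ : ℂ ≃ₐ[ℂ] (A ⧸ 𝔐) := AlgEquiv.ofBijective (Algebra.ofId ℂ (A ⧸ 𝔐)) hbij
  let y : A →ₐ[ℂ] ℂ := (e₂.symm : (A ⧸ 𝔐) →ₐ[ℂ] ℂ).comp (Ideal.Quotient.mkₐ ℂ 𝔐)
  have hyker : ∀ a : A, a ∈ 𝔐 → y a = 0 := by
    intro a ha
    show e₂.symm (Ideal.Quotient.mk 𝔐 a) = 0
    rw [Ideal.Quotient.eq_zero_iff_mem.mpr ha, map_zero]
  have hyψ : ∀ b : Algebra.adjoin (MvPolynomial (Fin d) ℂ) ({f} : Set A), y (b : A) = ψ b := by
    intro b
    have h1 : b - algebraMap ℂ _ (ψ b) ∈ RingHom.ker ψ := by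
      rw [RingHom.mem_ker, map_sub, hψC, sub_self]
    rw [← h𝔐] at h1
    have h2 : ((b - algebraMap ℂ _ (ψ b) :
        Algebra.adjoin (MvPolynomial (Fin d) ℂ) ({f} : Set A)) : A) ∈ 𝔐 := h1
    have h3 := hyker _ h2
    have h4 : ((b - algebraMap ℂ _ (ψ b) :
        Algebra.adjoin (MvPolynomial (Fin d) ℂ) ({f} : Set A)) : A) =
        (b : A) - algebraMap ℂ A (ψ b) := rfl
    rw [h4, map_sub, AlgHom.commutes] at h3
    have h5 := sub_eq_zero.mp h3
    simpa using h5
  refine ⟨y, fun i => ?_, ?_⟩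
  · have h6 := hyψ (algebraMap (MvPolynomial (Fin d) ℂ)
      (Algebra.adjoin (MvPolynomial (Fin d) ℂ) ({f} : Set A)) (MvPolynomial.X i))
    rw [hψP, MvPolynomial.eval_X] at h6
    exact h6
  · have h6 := hyψ ⟨f, Algebra.self_mem_adjoin_singleton (MvPolynomial (Fin d) ℂ) f⟩
    rw [hψf] at h6
    exact h6

/-- The core density statement relative to a Noether normalization. -/
theorem core_aux [IsDomain A] (hft : Algebra.FiniteType ℂ A)
    (hinj : Function.Injective (algebraMap (MvPolynomial (Fin d) ℂ) A))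
    (g : A) (hg : g ≠ 0) (x : A →ₐ[ℂ] ℂ) (S : Finset A) (ε : ℝ) (hε : 0 < ε) :
    ∃ y : A →ₐ[ℂ] ℂ, y g ≠ 0 ∧ ∀ a ∈ S, ‖y a - x a‖ < ε := by
  classical
  haveI : Algebra.IsIntegral (MvPolynomial (Fin d) ℂ) A :=
    Algebra.IsIntegral.of_finite (MvPolynomial (Fin d) ℂ) A
  haveI : FaithfulSMul (MvPolynomial (Fin d) ℂ) A :=
    (faithfulSMul_iff_algebraMap_injective (MvPolynomial (Fin d) ℂ) A).mpr hinj
  haveI : Module.IsTorsionFree (MvPolynomial (Fin d) ℂ) A := inferInstance
  -- a nonzero polynomial divisible by `g`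
  obtain ⟨h, hh0, hdvd⟩ := (Algebra.IsIntegral.isIntegral (R := MvPolynomial (Fin d) ℂ)
    g).isAlgebraic.exists_nonzero_dvd (mem_nonZeroDivisors_of_ne_zero hg)
  -- the base point and a separating function
  set c₀ : Fin d → ℂ := fun i => x (algebraMap (MvPolynomial (Fin d) ℂ) A (MvPolynomial.X i))
    with hc₀
  let 𝔪 : Ideal A := RingHom.ker (x : A →+* ℂ)
  haveI h𝔪 : 𝔪.IsMaximal := RingHom.ker_isMaximal_of_surjective _
    (fun z => ⟨algebraMap ℂ A z, x.commutes z⟩)
  have hfinite : ((𝔪.under (MvPolynomial (Fin d) ℂ)).primesOver A).Finite :=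
    Algebra.QuasiFinite.finite_primesOver _
  obtain ⟨f, hf𝔪, hf⟩ : ∃ f ∈ 𝔪, ∀ 𝔮 ∈ (𝔪.under (MvPolynomial (Fin d) ℂ)).primesOver A,
      𝔮 ≠ 𝔪 → f ∉ 𝔮 := by
    by_contra hcon
    push Not at hcon
    have hsub : ((𝔪 : Ideal A) : Set A) ⊆ ⋃ 𝔮 ∈ (↑(hfinite.toFinset.erase 𝔪) : Set (Ideal A)),
        ((id 𝔮 : Ideal A) : Set A) := by
      intro f hf
      obtain ⟨𝔮, h𝔮, hne, hf𝔮⟩ := hcon f hf
      rw [Set.mem_iUnion₂]
      refine ⟨𝔮, ?_, hf𝔮⟩
      rw [Finset.mem_coe, Finset.mem_erase]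
      exact ⟨hne, hfinite.mem_toFinset.mpr h𝔮⟩
    obtain ⟨𝔮, h𝔮, hle⟩ := (Ideal.subset_union_prime (s := hfinite.toFinset.erase 𝔪) (f := id)
      𝔪 𝔪 (fun 𝔮 h𝔮 _ _ => (hfinite.mem_toFinset.mp (Finset.mem_of_mem_erase h𝔮)).1)).mp hsub
    rw [Finset.mem_erase] at h𝔮
    have hprime : 𝔮.IsPrime := (hfinite.mem_toFinset.mp h𝔮.2).1
    exact h𝔮.1 (h𝔪.eq_of_le hprime.ne_top hle).symm
  have huniq : ∀ y : A →ₐ[ℂ] ℂ,
      (∀ i, y (algebraMap (MvPolynomial (Fin d) ℂ) A (MvPolynomial.X i)) = c₀ i) →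
      y f = 0 → y = x := by
    intro y hy hyf
    let 𝔮 : Ideal A := RingHom.ker (y : A →+* ℂ)
    haveI h𝔮 : 𝔮.IsMaximal := RingHom.ker_isMaximal_of_surjective _
      (fun z => ⟨algebraMap ℂ A z, y.commutes z⟩)
    have hunder : 𝔮.under (MvPolynomial (Fin d) ℂ) = 𝔪.under (MvPolynomial (Fin d) ℂ) := by
      ext p
      show y (algebraMap (MvPolynomial (Fin d) ℂ) A p) = 0 ↔
        x (algebraMap (MvPolynomial (Fin d) ℂ) A p) = 0
      rw [algHom_algebraMap_eq_eval y p, algHom_algebraMap_eq_eval x p]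
      have h1 : (fun i => y (algebraMap (MvPolynomial (Fin d) ℂ) A (MvPolynomial.X i))) = c₀ :=
        funext hy
      rw [h1]
    have hmem : 𝔮 ∈ (𝔪.under (MvPolynomial (Fin d) ℂ)).primesOver A :=
      ⟨h𝔮.isPrime, ⟨hunder.symm⟩⟩
    have h𝔮𝔪 : 𝔮 = 𝔪 := by
      by_contra hne
      exact hf 𝔮 hmem hne hyf
    apply algHom_eq_of_ker_le
    intro b hb
    have h2 : b ∈ 𝔮 := hb
    rw [h𝔮𝔪] at h2
    exact h2
  -- the minimal polynomial of the separating function
  have hfint : IsIntegral (MvPolynomial (Fin d) ℂ) f := Algebra.IsIntegral.isIntegral f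
  have hFm : (minpoly (MvPolynomial (Fin d) ℂ) f).Monic := minpoly.monic hfint
  have hFdeg : 0 < (minpoly (MvPolynomial (Fin d) ℂ) f).natDegree := minpoly.natDegree_pos hfint
  have hxf : x f = 0 := hf𝔪
  have hF0 : MvPolynomial.eval c₀ ((minpoly (MvPolynomial (Fin d) ℂ) f).coeff 0) = 0 := by
    have h1 := algHom_aeval x f (minpoly (MvPolynomial (Fin d) ℂ) f)
    rw [minpoly.aeval, map_zero, hxf, ← Polynomial.coeff_zero_eq_eval_zero,
      Polynomial.coeff_map] at h1
    exact h1.symm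
  -- compactness
  set C : ℝ := ‖c₀‖ + 1 with hC
  choose R hR using fun a : A => exists_bound (d := d) a C
  let Zset : Set (A → ℂ) := ({u | ∀ a b, u (a + b) = u a + u b} ∩
    {u | ∀ a b, u (a * b) = u a * u b}) ∩ {u | ∀ z : ℂ, u (algebraMap ℂ A z) = z}
  have hZclosed : IsClosed Zset := by
    refine (IsClosed.inter ?_ ?_).inter ?_
    · simp only [Set.ofPred_forall]
      exact isClosed_iInter fun a => isClosed_iInter fun b =>
        isClosed_eq (continuous_apply (a + b)) ((continuous_apply a).add (continuous_apply b))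
    · simp only [Set.ofPred_forall]
      exact isClosed_iInter fun a => isClosed_iInter fun b =>
        isClosed_eq (continuous_apply (a * b)) ((continuous_apply a).mul (continuous_apply b))
    · simp only [Set.ofPred_forall]
      exact isClosed_iInter fun z => isClosed_eq (continuous_apply _) continuous_const
  have hZ : ∀ u ∈ Zset, ∃ y : A →ₐ[ℂ] ℂ, ⇑y = u := by
    rintro u ⟨⟨hadd, hmul⟩, hCu⟩
    refine ⟨{ toFun := u
              map_one' := by rw [← map_one (algebraMap ℂ A)]; exact hCu 1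
              map_mul' := hmul
              map_zero' := by rw [← map_zero (algebraMap ℂ A)]; exact hCu 0
              map_add' := hadd
              commutes' := hCu }, rfl⟩
  let Kset : Set (A → ℂ) := (Zset ∩
    {u | ∀ i, ‖u (algebraMap (MvPolynomial (Fin d) ℂ) A (MvPolynomial.X i))‖ ≤ C}) ∩
    Set.pi Set.univ (fun a => Metric.closedBall (0 : ℂ) (R a))
  have hKcompact : IsCompact Kset := by
    apply IsCompact.inter_left (isCompact_univ_pi (fun a => isCompact_closedBall _ _))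
    apply hZclosed.inter
    simp only [Set.ofPred_forall]
    exact isClosed_iInter fun i => isClosed_le (continuous_apply _).norm continuous_const
  let O : Set (A → ℂ) := {u | ∀ a ∈ S, ‖u a - x a‖ < ε}
  have hOopen : IsOpen O := by
    have h1 : O = ⋂ a ∈ S, {u : A → ℂ | ‖u a - x a‖ < ε} := by
      ext u
      simp [O]
    rw [h1]
    exact isOpen_biInter_finset fun a _ =>
      isOpen_lt ((continuous_apply a).sub continuous_const).norm continuous_const
  have hK' : IsCompact (Kset \ O) := hKcompact.diff hOopen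
  let ρ : (A → ℂ) → (Fin d → ℂ) × ℂ :=
    fun u => (fun i => u (algebraMap (MvPolynomial (Fin d) ℂ) A (MvPolynomial.X i)), u f)
  have hρ : Continuous ρ := (continuous_pi fun i => continuous_apply _).prodMk (continuous_apply f)
  have himg : IsClosed (ρ '' (Kset \ O)) := (hK'.image hρ).isClosed
  have hp : ((c₀, (0 : ℂ)) : (Fin d → ℂ) × ℂ) ∉ ρ '' (Kset \ O) := by
    rintro ⟨u, ⟨hu, huO⟩, hρu⟩
    obtain ⟨y, rfl⟩ := hZ u hu.1.1
    have h1 : ∀ i, y (algebraMap (MvPolynomial (Fin d) ℂ) A (MvPolynomial.X i)) = c₀ i :=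
      fun i => congrFun (congrArg Prod.fst hρu) i
    have h2 : y f = 0 := congrArg Prod.snd hρu
    have h3 := huniq y h1 h2
    apply huO
    intro a _
    rw [h3, sub_self, norm_zero]
    exact hε
  obtain ⟨δ, hδ, hball⟩ := Metric.isOpen_iff.mp himg.isOpen_compl _ hp
  -- choice of a nearby point
  set δ₁ : ℝ := min δ 1 / 2 with hδ₁
  have hmin : 0 < min δ 1 := lt_min hδ one_pos
  have hδ₁pos : 0 < δ₁ := by positivity
  have hδ₁lt : δ₁ < δ := by
    have : min δ 1 ≤ δ := min_le_left _ _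
    rw [hδ₁]; linarith
  have hδ₁le : δ₁ ≤ 1 := by
    have : min δ 1 ≤ 1 := min_le_right _ _
    rw [hδ₁]; linarith
  have hcont : ContinuousAt (fun c : Fin d → ℂ =>
      MvPolynomial.eval c ((minpoly (MvPolynomial (Fin d) ℂ) f).coeff 0)) c₀ :=
    (MvPolynomial.continuous_eval _).continuousAt
  obtain ⟨η, hη, hηb⟩ := Metric.continuousAt_iff.mp hcont
    (δ₁ ^ (minpoly (MvPolynomial (Fin d) ℂ) f).natDegree) (by positivity)
  obtain ⟨c, hcdist, hch⟩ := exists_near_eval_ne_zero h hh0 c₀ (min η δ₁) (lt_min hη hδ₁pos)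
  have hc1 : dist c c₀ < η := lt_of_lt_of_le hcdist (min_le_left _ _)
  have hc2 : dist c c₀ < δ₁ := lt_of_lt_of_le hcdist (min_le_right _ _)
  have hsmall : ‖((minpoly (MvPolynomial (Fin d) ℂ) f).map (MvPolynomial.eval c)).coeff 0‖ <
      δ₁ ^ ((minpoly (MvPolynomial (Fin d) ℂ) f).map (MvPolynomial.eval c)).natDegree := by
    rw [hFm.natDegree_map (MvPolynomial.eval c), Polynomial.coeff_map]
    have h1 := hηb hc1
    rw [hF0, dist_zero_right] at h1
    exact h1
  obtain ⟨r, hr0, hrlt⟩ := exists_small_root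
    ((minpoly (MvPolynomial (Fin d) ℂ) f).map (MvPolynomial.eval c)) (hFm.map _)
    (by rw [hFm.natDegree_map (MvPolynomial.eval c)]; exact hFdeg) δ₁ hδ₁pos hsmall
  obtain ⟨y, hyc, hyf⟩ := exists_algHom_of_root hft hinj f c r hr0
  have hyfun : (fun i => y (algebraMap (MvPolynomial (Fin d) ℂ) A (MvPolynomial.X i))) = c :=
    funext hyc
  refine ⟨y, ?_, ?_⟩
  · obtain ⟨b, hb⟩ := hdvd
    intro hyg
    apply hch
    have h1 := algHom_algebraMap_eq_eval y h
    rw [hb, map_mul, hyg, zero_mul, hyfun] at h1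
    exact h1.symm
  · by_contra hnO
    have hyC : ∀ i, ‖y (algebraMap (MvPolynomial (Fin d) ℂ) A (MvPolynomial.X i))‖ ≤ C := by
      intro i
      rw [hyc i]
      have h1 : ‖c i‖ ≤ ‖c‖ := norm_le_pi_norm c i
      have h2 : ‖c‖ ≤ ‖c₀‖ + ‖c - c₀‖ := by
        have : c = c₀ + (c - c₀) := by abel
        calc ‖c‖ = ‖c₀ + (c - c₀)‖ := by rw [← this]
          _ ≤ ‖c₀‖ + ‖c - c₀‖ := norm_add_le _ _
      have h3 : ‖c - c₀‖ < δ₁ := by rw [← dist_eq_norm]; exact hc2
      rw [hC]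
      linarith
    have hKy : (⇑y : A → ℂ) ∈ Kset := by
      refine ⟨⟨⟨⟨fun a b => map_add y a b, fun a b => map_mul y a b⟩, fun z => y.commutes z⟩,
        hyC⟩, fun a _ => mem_closedBall_zero_iff.mpr (hR a y hyC)⟩
    have hρy : ρ ⇑y = (c, r) := Prod.ext hyfun hyf
    have hmemball : ρ ⇑y ∈ Metric.ball ((c₀, (0 : ℂ)) : (Fin d → ℂ) × ℂ) δ := by
      rw [hρy, Metric.mem_ball, Prod.dist_eq]
      exact max_lt (hc2.trans hδ₁lt) (by rw [dist_zero_right]; exact hrlt.trans hδ₁lt)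
    exact hball hmemball ⟨⇑y, ⟨hKy, hnO⟩, rfl⟩

end PAlg

/-- **Density.** On an integral affine variety over `ℂ`, every complex point is a limit (for the
topology of pointwise convergence on functions) of complex points at which a given nonzero
function does not vanish. -/
theorem core {A : Type} [CommRing A] [Algebra ℂ A] [IsDomain A] (hft : Algebra.FiniteType ℂ A)
    (g : A) (hg : g ≠ 0) (x : A →ₐ[ℂ] ℂ) (S : Finset A) (ε : ℝ) (hε : 0 < ε) :
    ∃ y : A →ₐ[ℂ] ℂ, y g ≠ 0 ∧ ∀ a ∈ S, ‖y a - x a‖ < ε := by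
  haveI := hft
  obtain ⟨d, φ, hinj, hfin⟩ := exists_finite_inj_algHom_of_fg ℂ A
  letI : Algebra (MvPolynomial (Fin d) ℂ) A := φ.toRingHom.toAlgebra
  haveI : IsScalarTower ℂ (MvPolynomial (Fin d) ℂ) A :=
    IsScalarTower.of_algebraMap_eq (fun z => (φ.commutes z).symm)
  haveI : Module.Finite (MvPolynomial (Fin d) ℂ) A := hfin
  exact core_aux hft hinj g hg x S ε hε

end Groth.Agent.Helper7.AnDense
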