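import Mathlib
import Groth.Agent.Lib.Helper7.AnDense.Core

set_option linter.style.haveILetI false
set_option linter.unusedVariables false
set_option linter.unusedSectionVars false
set_option autoImplicit false
set_option backward.isDefEq.respectTransparency.types false
set_option synthInstance.maxHeartbeats 400000
set_option maxHeartbeats 800000

open Topology

namespace Groth.Agent.Helper7.AnDense

section Alg

variable {B : Type} [CommRing B] [Algebra ℂ B]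

/-- The point of the prime spectrum defined by a complex point. -/
noncomputable def kerPt (x : B →ₐ[ℂ] ℂ) : PrimeSpectrum B :=
  ⟨RingHom.ker (x : B →+* ℂ), RingHom.ker_isPrime _⟩

theorem mem_kerPt (x : B →ₐ[ℂ] ℂ) (b : B) : b ∈ (kerPt x).asIdeal ↔ x b = 0 := by
  show b ∈ RingHom.ker (x : B →+* ℂ) ↔ _
  rw [RingHom.mem_ker]
  rfl

theorem exists_prime_between (f₀ : B) (s : Set B) (x : B →ₐ[ℂ] ℂ)
    (hx : kerPt x ∈ closure ((PrimeSpectrum.basicOpen f₀ : Set (PrimeSpectrum B)) \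
      ⋃ j ∈ s, (PrimeSpectrum.basicOpen j : Set (PrimeSpectrum B)))) :
    ∃ p : Ideal B, p.IsPrime ∧ s ⊆ p ∧ p ≤ (kerPt x).asIdeal ∧ f₀ ∉ p := by
  have hT : ∀ q ∈ ((PrimeSpectrum.basicOpen f₀ : Set (PrimeSpectrum B)) \
      ⋃ j ∈ s, (PrimeSpectrum.basicOpen j : Set (PrimeSpectrum B))),
      f₀ ∉ q.asIdeal ∧ ∀ j ∈ s, j ∈ q.asIdeal := by
    intro q hq
    refine ⟨hq.1, fun j hj => ?_⟩
    by_contra hjq
    exact hq.2 (Set.mem_biUnion hj hjq)
  rw [← PrimeSpectrum.zeroLocus_vanishingIdeal_eq_closure, PrimeSpectrum.mem_zeroLocus] at hx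
  haveI hmp : (kerPt x).asIdeal.IsPrime := (kerPt x).isPrime
  have hdisj : Disjoint ((Ideal.span s : Ideal B) : Set B)
      (((kerPt x).asIdeal.primeCompl ⊔ Submonoid.powers f₀ : Submonoid B) : Set B) := by
    rw [Set.disjoint_left]
    intro b hbJ hbM
    obtain ⟨u, hu, z, ⟨n, rfl⟩, rfl⟩ := Submonoid.mem_sup.mp hbM
    apply hu
    apply hx
    rw [SetLike.mem_coe, PrimeSpectrum.mem_vanishingIdeal]
    intro q hq
    obtain ⟨hq1, hq2⟩ := hT q hq
    have hJq : Ideal.span s ≤ q.asIdeal := Ideal.span_le.mpr (fun j hj => hq2 j hj)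
    have h3 := hJq hbJ
    rcases q.isPrime.mem_or_mem h3 with h | h
    · exact h
    · exact absurd (q.isPrime.mem_of_pow_mem n h) hq1
  obtain ⟨p, hp, hJp, hpM⟩ := Ideal.exists_le_prime_disjoint _ _ hdisj
  refine ⟨p, hp, fun j hj => hJp (Ideal.subset_span hj), ?_, ?_⟩
  · intro b hb
    by_contra hbm
    exact Set.disjoint_left.mp hpM hb (SetLike.mem_coe.mpr (Submonoid.mem_sup_left hbm))
  · intro hf
    exact Set.disjoint_left.mp hpM hf
      (SetLike.mem_coe.mpr (Submonoid.mem_sup_right (Submonoid.mem_powers f₀)))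

theorem spec_dense_base (hft : Algebra.FiniteType ℂ B) (f₀ : B) (s : Set B) (x : B →ₐ[ℂ] ℂ)
    (hx : kerPt x ∈ closure ((PrimeSpectrum.basicOpen f₀ : Set (PrimeSpectrum B)) \
      ⋃ j ∈ s, (PrimeSpectrum.basicOpen j : Set (PrimeSpectrum B))))
    (S : Finset B) (ε : ℝ) (hε : 0 < ε) :
    ∃ y : B →ₐ[ℂ] ℂ, kerPt y ∈ ((PrimeSpectrum.basicOpen f₀ : Set (PrimeSpectrum B)) \
      ⋃ j ∈ s, (PrimeSpectrum.basicOpen j : Set (PrimeSpectrum B))) ∧
      ∀ a ∈ S, ‖y a - x a‖ < ε := by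
  classical
  obtain ⟨p, hp, hsp, hpm, hfp⟩ := exists_prime_between f₀ s x hx
  haveI := hp
  haveI : IsDomain (B ⧸ p) := Ideal.Quotient.isDomain p
  haveI := hft
  have hftA : Algebra.FiniteType ℂ (B ⧸ p) :=
    Algebra.FiniteType.of_surjective (Ideal.Quotient.mkₐ ℂ p) (Ideal.Quotient.mkₐ_surjective ℂ p)
  have hxp : ∀ a ∈ p, x a = 0 := fun a ha => (mem_kerPt x a).mp (hpm ha)
  let xbar : (B ⧸ p) →ₐ[ℂ] ℂ := Ideal.Quotient.liftₐ p x hxp
  have hg : (Ideal.Quotient.mk p f₀) ≠ 0 := by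
    rw [Ne, Ideal.Quotient.eq_zero_iff_mem]
    exact hfp
  obtain ⟨ybar, hy1, hy2⟩ := core hftA _ hg xbar (S.image (Ideal.Quotient.mk p)) ε hε
  refine ⟨ybar.comp (Ideal.Quotient.mkₐ ℂ p), ⟨?_, ?_⟩, ?_⟩
  · show f₀ ∉ (kerPt _).asIdeal
    rw [mem_kerPt]
    exact hy1
  · intro hmem
    obtain ⟨j, hj, hjm⟩ := Set.mem_iUnion₂.mp hmem
    apply hjm
    show j ∈ (kerPt _).asIdeal
    rw [mem_kerPt]
    show ybar (Ideal.Quotient.mk p j) = 0
    rw [Ideal.Quotient.eq_zero_iff_mem.mpr (hsp hj), map_zero]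
  · intro a ha
    have h3 := hy2 (Ideal.Quotient.mk p a) (Finset.mem_image_of_mem _ ha)
    have e : xbar (Ideal.Quotient.mk p a) = x a := rfl
    rw [e] at h3
    exact h3

theorem spec_dense (hft : Algebra.FiniteType ℂ B) (T : Set (PrimeSpectrum B))
    (hT : IsConstructible T) (x : B →ₐ[ℂ] ℂ) (hx : kerPt x ∈ closure T)
    (S : Finset B) (ε : ℝ) (hε : 0 < ε) :
    ∃ y : B →ₐ[ℂ] ℂ, kerPt y ∈ T ∧ ∀ a ∈ S, ‖y a - x a‖ < ε := by
  revert x
  refine IsConstructible.induction_of_isTopologicalBasis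
    (P := fun T _ => ∀ x : B →ₐ[ℂ] ℂ, kerPt x ∈ closure T →
      ∃ y : B →ₐ[ℂ] ℂ, kerPt y ∈ T ∧ ∀ a ∈ S, ‖y a - x a‖ < ε)
    (fun f : B => (PrimeSpectrum.basicOpen f : Set (PrimeSpectrum B)))
    PrimeSpectrum.isTopologicalBasis_basic_opens
    (fun f => PrimeSpectrum.isCompact_basicOpen f) ?_ ?_ T hT
  · intro i s hs x hx
    exact spec_dense_base hft i s x hx S ε hε
  · intro s hs t ht ihs iht x hx
    rw [closure_union] at hx
    rcases hx with h | h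
    · obtain ⟨y, hy1, hy2⟩ := ihs x h
      exact ⟨y, Or.inl hy1, hy2⟩
    · obtain ⟨y, hy1, hy2⟩ := iht x h
      exact ⟨y, Or.inr hy1, hy2⟩

end Alg

/-- Basic neighbourhoods for the topology of pointwise convergence. -/
theorem exists_finset_eps_of_isOpen_pi {ι : Type*} (W : Set (ι → ℂ)) (hW : IsOpen W) (z : ι → ℂ)
    (hz : z ∈ W) : ∃ (S : Finset ι) (ε : ℝ), 0 < ε ∧
      ∀ w : ι → ℂ, (∀ a ∈ S, ‖w a - z a‖ < ε) → w ∈ W := by
  classical
  obtain ⟨I, u, hu, hsub⟩ := isOpen_pi_iff.mp hW z hz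
  have hδ : ∀ a : ι, ∃ δ : ℝ, 0 < δ ∧ (a ∈ I → Metric.ball (z a) δ ⊆ u a) := by
    intro a
    by_cases ha : a ∈ I
    · obtain ⟨δ, hδ, hb⟩ := Metric.isOpen_iff.mp (hu a ha).1 (z a) (hu a ha).2
      exact ⟨δ, hδ, fun _ => hb⟩
    · exact ⟨1, one_pos, fun h => absurd h ha⟩
  choose δ hδpos hδsub using hδ
  by_cases hI : I.Nonempty
  · refine ⟨I, I.inf' hI δ, (Finset.lt_inf'_iff hI).mpr (fun i _ => hδpos i), ?_⟩
    intro w hw
    apply hsub
    intro a ha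
    apply hδsub a ha
    rw [Metric.mem_ball, dist_eq_norm]
    exact lt_of_lt_of_le (hw a ha) (Finset.inf'_le δ ha)
  · refine ⟨I, 1, one_pos, ?_⟩
    intro w hw
    apply hsub
    intro a ha
    exact absurd ⟨a, ha⟩ hI

/-- Ring homomorphism version of `spec_dense`. -/
theorem spec_dense_ringHom {B : Type} [CommRing B] (φ : ℂ →+* B) (hφ : φ.FiniteType)
    (T : Set (PrimeSpectrum B)) (hT : IsConstructible T)
    (x : B →+* ℂ) (hxφ : x.comp φ = RingHom.id ℂ) (p : PrimeSpectrum B)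
    (hp : ∀ b, b ∈ p.asIdeal ↔ x b = 0) (hpT : p ∈ closure T)
    (W : Set (B → ℂ)) (hW : IsOpen W) (hxW : (fun b => x b) ∈ W) :
    ∃ y : B →+* ℂ, y.comp φ = RingHom.id ℂ ∧ (fun b => y b) ∈ W ∧
      ∀ q : PrimeSpectrum B, (∀ b, b ∈ q.asIdeal ↔ y b = 0) → q ∈ T := by
  letI : Algebra ℂ B := φ.toAlgebra
  have hft : Algebra.FiniteType ℂ B := hφ
  let xa : B →ₐ[ℂ] ℂ := { x with commutes' := fun c => congr($hxφ c) }
  have hxa : ∀ b, xa b = x b := fun b => rfl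
  have hpx : p = kerPt xa := by
    apply PrimeSpectrum.ext
    ext b
    rw [hp, mem_kerPt, hxa]
  obtain ⟨S, ε, hε, hS⟩ := exists_finset_eps_of_isOpen_pi W hW _ hxW
  rw [hpx] at hpT
  obtain ⟨y, hy1, hy2⟩ := spec_dense hft T hT xa hpT S ε hε
  refine ⟨y, ?_, ?_, ?_⟩
  · ext c
    exact y.commutes c
  · apply hS
    intro a ha
    exact hy2 a ha
  · intro q hq
    have : q = kerPt y := by
      apply PrimeSpectrum.ext
      ext b
      rw [hq, mem_kerPt]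
      rfl
    rw [this]
    exact hy1

end Groth.Agent.Helper7.AnDense
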