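import Mathlib
import Groth.Prelude.Def_AnPts
import Groth.Agent.Lib.Helper7.AnPts4
import Groth.Agent.Lib.Helper7.AnDense.Spec
import Groth.Agent.S4198

set_option linter.style.haveILetI false
set_option linter.unusedVariables false
set_option linter.unusedSectionVars false
set_option autoImplicit false
set_option backward.isDefEq.respectTransparency.types false
set_option synthInstance.maxHeartbeats 400000
set_option maxHeartbeats 800000

open AlgebraicGeometry CategoryTheory TopologicalSpace Opposite An Topology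
open Groth.Agent.Helper7.AnPts

namespace Groth.Agent.Helper7.AnDense

variable {X : Scheme.{0}} [X.Over SC]

theorem strHom_finiteType [IsAffine X] [LocallyOfFiniteType (X ↘ SC)] :
    (strHom X).FiniteType := by
  have h1 : (X ↘ SC).appTop.hom.FiniteType :=
    (HasRingHomProperty.iff_of_isAffine (P := @LocallyOfFiniteType)).mp inferInstance
  unfold strHom
  refine h1.comp (RingHom.FiniteType.of_surjective _ ?_)
  exact (Scheme.ΓSpecIso (CommRingCat.of ℂ)).symm.commRingCatIsoToRingEquiv.surjective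

/-- The prime ideal of the underlying point of a complex point of an affine scheme is the kernel
of the evaluation homomorphism. -/
theorem mem_isoSpec_pt_iff [IsAffine X] (y : Pts X) (b : Γ(X, ⊤)) :
    b ∈ (X.isoSpec.hom y.pt : PrimeSpectrum Γ(X, ⊤)).asIdeal ↔ evTopHom y b = 0 := by
  have h1 : y.pt ∈ X.basicOpen b ↔ y.evTop b ≠ 0 := mem_basicOpen_iff y b
  rw [← Scheme.map_PrimeSpectrum_basicOpen_of_affine X b] at h1
  have h2 : y.pt ∈ X.isoSpec.hom ⁻¹ᵁ PrimeSpectrum.basicOpen b ↔
      b ∉ (X.isoSpec.hom y.pt : PrimeSpectrum Γ(X, ⊤)).asIdeal := Iff.rfl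
  rw [h2, evTop_eq] at h1
  exact not_iff_not.mp h1

theorem affine_dense (X : Scheme.{0}) [X.Over SC] [IsAffine X] [LocallyOfFiniteType (X ↘ SC)]
    (T : Set X) (hT : IsLocallyConstructible T) (x : Pts X) (hx : x.pt ∈ closure T)
    (N : Set (Pts X)) (hN : IsOpen N) (hxN : x ∈ N) : ∃ y ∈ N, y.pt ∈ T := by
  have hfin := strHom_finiteType (X := X)
  let e : X ≃ₜ PrimeSpectrum Γ(X, ⊤) := Scheme.homeoOfIso X.isoSpec
  have hTc : IsConstructible T := hT.isConstructible
  have hT2 : IsConstructible (e.symm ⁻¹' T) :=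
    hTc.preimage_of_isOpenEmbedding e.symm.isOpenEmbedding
  have hx2 : e x.pt ∈ closure (e.symm ⁻¹' T) := by
    rw [← e.symm.preimage_closure]
    show e.symm (e x.pt) ∈ closure T
    rw [e.symm_apply_apply]
    exact hx
  let F : Pts X → (Γ(X, ⊤) → ℂ) := fun y b => y.evTop b
  have hF : Continuous F := continuous_pi (fun b => continuous_evTop b)
  have hind : Topology.IsInducing F :=
    isInducing_of_evTop_factor F hF (fun g => ⟨fun z => z g, continuous_apply g, fun y => rfl⟩)
  obtain ⟨W, hW, hWN⟩ := hind.isOpen_iff.mp hN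
  have hxW : (fun b => evTopHom x b) ∈ W := by
    have h1 : x ∈ F ⁻¹' W := by rw [hWN]; exact hxN
    have e2 : F x = fun b => evTopHom x b := funext (fun b => evTop_eq x b)
    rw [← e2]
    exact h1
  obtain ⟨ψ, hψ1, hψ2, hψ3⟩ := spec_dense_ringHom (strHom X) hfin (e.symm ⁻¹' T) hT2
    (evTopHom x) (evTopHom_comp_strHom x) (e x.pt) (fun b => mem_isoSpec_pt_iff x b) hx2 W hW hxW
  obtain ⟨y, hy⟩ := exists_pt_of_ringHom ψ hψ1
  refine ⟨y, ?_, ?_⟩
  · rw [← hWN]
    show F y ∈ W
    have e2 : F y = fun b => ψ b := funext (fun b => by rw [← hy]; exact evTop_eq y b)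
    rw [e2]
    exact hψ2
  · have h3 := hψ3 (e y.pt) (fun b => by rw [← hy]; exact mem_isoSpec_pt_iff y b)
    have h4 : e.symm (e y.pt) ∈ T := h3
    rwa [e.symm_apply_apply] at h4

theorem S4188_main (X : Scheme.{0}) [X.Over SC] [LocallyOfFiniteType (X ↘ SC)]
    (T : Set X) (hT : IsLocallyConstructible T) :
    (Pts.pt ⁻¹' closure T : Set (Pts X)) = closure (Pts.pt ⁻¹' T) := by
  apply Set.Subset.antisymm
  · intro x hx
    rw [mem_closure_iff]
    intro N hN hxN
    obtain ⟨_, ⟨U, hU, rfl⟩, hxU, -⟩ :=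
      X.isBasis_affineOpens.exists_subset_of_mem_open (Set.mem_univ x.pt) isOpen_univ
    replace hU : IsAffineOpen (U : X.Opens) := hU
    have hb := isOpenEmbedding_map_of_isOpenImmersion (Scheme.Opens.ι U)
    have hx' : x ∈ Set.range (Pts.map (Scheme.Opens.ι U)) := by
      rw [range_map_ι]
      exact hxU
    obtain ⟨z, rfl⟩ := hx'
    haveI : IsAffine (Scheme.Opens.toScheme U) := hU
    haveI hlft : LocallyOfFiniteType (Scheme.Opens.toScheme U ↘ SC) := by
      show LocallyOfFiniteType (Scheme.Opens.ι U ≫ (X ↘ SC))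
      infer_instance
    have hT' : IsLocallyConstructible ((Scheme.Opens.ι U) ⁻¹' T) :=
      hT.preimage_of_isOpenEmbedding (Scheme.Opens.ι U).isOpenEmbedding
    have hz : z.pt ∈ closure ((Scheme.Opens.ι U) ⁻¹' T) := by
      rw [← (Scheme.Opens.ι U).isOpenEmbedding.isOpenMap.preimage_closure_eq_closure_preimage (Scheme.Opens.ι U).continuous]
      show (Scheme.Opens.ι U) z.pt ∈ closure T
      rw [← Pts.pt_map]
      exact hx
    obtain ⟨y, hyN, hyT⟩ := affine_dense (Scheme.Opens.toScheme U) _ hT' z hz (Pts.map (Scheme.Opens.ι U) ⁻¹' N)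
      (hN.preimage hb.continuous) hxN
    refine ⟨Pts.map (Scheme.Opens.ι U) y, hyN, ?_⟩
    show (Pts.map (Scheme.Opens.ι U) y).pt ∈ T
    rw [Pts.pt_map]
    exact hyT
  · exact closure_minimal (Set.preimage_mono subset_closure)
      (isClosed_closure.preimage Pts.continuous_pt)

/-- locally closed subsets of locally Noetherian schemes are locally constructible (argument as in
helper4's `OpenNoeth1`) -/
theorem isLocallyConstructible_of_isOpen_inter_isClosed {X : Scheme.{0}} [IsLocallyNoetherian X]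
    (U W : Set X) (hU : IsOpen U) (hW : IsClosed W) : IsLocallyConstructible (U ∩ W) := by
  intro x
  obtain ⟨_, ⟨O, hO : IsAffineOpen O, rfl⟩, hxO, -⟩ :=
    X.isBasis_affineOpens.exists_subset_of_mem_open (Set.mem_univ x) isOpen_univ
  refine ⟨O, O.2.mem_nhds hxO, O.2, ?_⟩
  haveI : IsNoetherianRing Γ(X, O) := IsLocallyNoetherian.component_noetherian ⟨O, hO⟩
  haveI : NoetherianSpace ↥O := noetherianSpace_of_isAffineOpen O hO
  have hopen : ∀ A : Set ↥O, IsOpen A → IsConstructible A := by
    intro A hA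
    have h1 : IsRetrocompact A := fun _ _ _ => NoetherianSpace.isCompact _
    exact h1.isConstructible hA
  have h1 : IsConstructible ((Subtype.val : ↥O → X) ⁻¹' U) :=
    hopen _ (hU.preimage continuous_subtype_val)
  have h2 : IsConstructible ((Subtype.val : ↥O → X) ⁻¹' W) := by
    have := hopen ((Subtype.val : ↥O → X) ⁻¹' W)ᶜ
      (hW.preimage continuous_subtype_val).isOpen_compl
    exact this.of_compl
  exact h1.inter h2

theorem isLocallyConstructible_of_isOpen {X : Scheme.{0}} [IsLocallyNoetherian X]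
    (U : Set X) (hU : IsOpen U) : IsLocallyConstructible U := by
  have := isLocallyConstructible_of_isOpen_inter_isClosed U Set.univ hU isClosed_univ
  rwa [Set.inter_univ] at this

theorem isLocallyConstructible_of_isClosed {X : Scheme.{0}} [IsLocallyNoetherian X]
    (W : Set X) (hW : IsClosed W) : IsLocallyConstructible W := by
  have := isLocallyConstructible_of_isOpen_inter_isClosed Set.univ W isOpen_univ hW
  rwa [Set.univ_inter] at this

theorem isLocallyConstructible_compl {T : Type*} [TopologicalSpace T] {S : Set T}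
    (hS : IsLocallyConstructible S) : IsLocallyConstructible Sᶜ := by
  intro x
  obtain ⟨U, hU1, hU2, hU3⟩ := hS x
  exact ⟨U, hU1, hU2, hU3.compl⟩

/-- nonempty locally constructible sets contain complex points -/
theorem exists_pt_mem (X : Scheme.{0}) [X.Over SC] [LocallyOfFiniteType (X ↘ SC)]
    (T : Set X) (hT : IsLocallyConstructible T) (hne : T.Nonempty) :
    ∃ y : Pts X, y.pt ∈ T := by
  haveI hJ : JacobsonSpace X := LocallyOfFiniteType.jacobsonSpace (X ↘ SC)
  obtain ⟨p, hp, hpc⟩ := Groth.Agent.S4198.exists_closedPoint hT hne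
  obtain ⟨y, rfl⟩ := Groth.Agent.S4198.exists_pts_of_isClosed X p hpc
  exact ⟨y, hp⟩

/-- nonempty locally closed sets contain complex points -/
theorem exists_pt_mem_of_isLocallyClosed (X : Scheme.{0}) [X.Over SC]
    [LocallyOfFiniteType (X ↘ SC)]
    (T : Set X) (hT : IsLocallyClosed T) (hne : T.Nonempty) :
    ∃ y : Pts X, y.pt ∈ T := by
  haveI hJ : JacobsonSpace X := LocallyOfFiniteType.jacobsonSpace (X ↘ SC)
  obtain ⟨p, hp, hpc⟩ := nonempty_inter_closedPoints hne hT
  obtain ⟨y, rfl⟩ := Groth.Agent.S4198.exists_pts_of_isClosed X p hpc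
  exact ⟨y, hp⟩

theorem S4190_main (X : Scheme.{0}) [X.Over SC] [LocallyOfFiniteType (X ↘ SC)]
    (T : Set X) (hT : IsLocallyConstructible T) :
    Dense T ↔ Dense (Pts.pt ⁻¹' T : Set (Pts X)) := by
  have key := S4188_main X T hT
  constructor
  · intro h
    rw [dense_iff_closure_eq] at h ⊢
    rw [← key, h, Set.preimage_univ]
  · intro h
    rw [dense_iff_closure_eq] at h
    rw [← key] at h
    by_contra hnd
    have hne : ((closure T)ᶜ).Nonempty := by
      rw [Set.nonempty_compl]
      intro h2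
      exact hnd (dense_iff_closure_eq.mpr h2)
    obtain ⟨y, hy⟩ := exists_pt_mem_of_isLocallyClosed X _
      isClosed_closure.isOpen_compl.isLocallyClosed hne
    have h3 : y ∈ Pts.pt ⁻¹' closure T := by
      rw [h]
      trivial
    exact hy h3

theorem S4189_main (X : Scheme.{0}) [X.Over SC] [LocallyOfFiniteType (X ↘ SC)]
    (T : Set X) (hT : IsLocallyConstructible T) :
    IsOpen T ↔ IsOpen (Pts.pt ⁻¹' T : Set (Pts X)) := by
  constructor
  · intro h
    exact h.preimage Pts.continuous_pt
  · intro h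
    haveI hN : IsLocallyNoetherian X := LocallyOfFiniteType.isLocallyNoetherian (X ↘ SC)
    have hC : IsLocallyConstructible Tᶜ := isLocallyConstructible_compl hT
    have key := S4188_main X Tᶜ hC
    have hcl : IsClosed (Pts.pt ⁻¹' Tᶜ : Set (Pts X)) := by
      rw [Set.preimage_compl]
      exact h.isClosed_compl
    rw [hcl.closure_eq] at key
    rw [← isClosed_compl_iff, ← closure_subset_iff_isClosed]
    by_contra hns
    have hne : (closure Tᶜ ∩ T).Nonempty := by
      rw [Set.not_subset] at hns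
      obtain ⟨a, ha, ha'⟩ := hns
      exact ⟨a, ha, not_not.mp ha'⟩
    have hlc : IsLocallyConstructible (closure Tᶜ ∩ T) :=
      (isLocallyConstructible_of_isClosed _ isClosed_closure).inter hT
    obtain ⟨y, hy⟩ := exists_pt_mem X _ hlc hne
    have h1 : y ∈ Pts.pt ⁻¹' closure Tᶜ := hy.1
    rw [key] at h1
    exact h1 hy.2

theorem ringHom_eq_of_ker {B : Type*} [CommRing B] (φ : ℂ →+* B) (r1 r2 : B →+* ℂ)
    (h1 : r1.comp φ = RingHom.id ℂ) (h2 : r2.comp φ = RingHom.id ℂ)
    (h : ∀ b, r1 b = 0 → r2 b = 0) : r1 = r2 := by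
  ext b
  have e1 : r1 (b - φ (r1 b)) = 0 := by
    rw [map_sub]
    have h3 : r1 (φ (r1 b)) = r1 b := congr($h1 (r1 b))
    rw [h3, sub_self]
  have e2 := h _ e1
  rw [map_sub] at e2
  have h3 : r2 (φ (r1 b)) = r1 b := congr($h2 (r1 b))
  rw [h3] at e2
  exact (sub_eq_zero.mp e2).symm

theorem pt_injective_of_isAffine [IsAffine X] : Function.Injective (Pts.pt : Pts X → X) := by
  intro x y h
  apply evTopHom_injective
  apply ringHom_eq_of_ker (strHom X) _ _ (evTopHom_comp_strHom x) (evTopHom_comp_strHom y)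
  intro b hb
  rw [← mem_isoSpec_pt_iff] at hb ⊢
  rw [← h]
  exact hb

theorem pt_injective (X : Scheme.{0}) [X.Over SC] : Function.Injective (Pts.pt : Pts X → X) := by
  intro x y h
  obtain ⟨_, ⟨U, hU, rfl⟩, hxU, -⟩ :=
    X.isBasis_affineOpens.exists_subset_of_mem_open (Set.mem_univ x.pt) isOpen_univ
  replace hU : IsAffineOpen (U : X.Opens) := hU
  haveI : IsAffine (Scheme.Opens.toScheme U) := hU
  have hx : x ∈ Set.range (Pts.map (Scheme.Opens.ι U)) := by
    rw [range_map_ι]
    exact hxU
  have hy : y ∈ Set.range (Pts.map (Scheme.Opens.ι U)) := by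
    rw [range_map_ι]
    show y.pt ∈ U
    rw [← h]
    exact hxU
  obtain ⟨x', rfl⟩ := hx
  obtain ⟨y', rfl⟩ := hy
  rw [Pts.pt_map, Pts.pt_map] at h
  have h2 := (Scheme.Opens.ι U).isOpenEmbedding.injective h
  rw [pt_injective_of_isAffine h2]

theorem isClosed_singleton_pt_of_isAffine [IsAffine X] (x : Pts X) :
    IsClosed ({x.pt} : Set X) := by
  let e : X ≃ₜ PrimeSpectrum Γ(X, ⊤) := Scheme.homeoOfIso X.isoSpec
  have hmax : (e x.pt).asIdeal.IsMaximal := by
    have hker : (e x.pt).asIdeal = RingHom.ker (evTopHom x) := by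
      ext b
      rw [RingHom.mem_ker]
      exact mem_isoSpec_pt_iff x b
    rw [hker]
    apply RingHom.ker_isMaximal_of_surjective
    intro c
    exact ⟨strHom X c, evTopHom_strHom x c⟩
  have hcl : IsClosed ({e x.pt} : Set (PrimeSpectrum Γ(X, ⊤))) :=
    (PrimeSpectrum.isClosed_singleton_iff_isMaximal _).mpr hmax
  have h1 : ({x.pt} : Set X) = e ⁻¹' {e x.pt} := by
    ext p
    simp only [Set.mem_singleton_iff, Set.mem_preimage]
    exact ⟨fun h => by rw [h], fun h => e.injective h⟩
  rw [h1]
  exact hcl.preimage e.continuous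

theorem isClosed_singleton_pt (X : Scheme.{0}) [X.Over SC] (x : Pts X) :
    IsClosed ({x.pt} : Set X) := by
  rw [← closure_subset_iff_isClosed]
  intro w hw
  have hsp : x.pt ⤳ w := specializes_iff_mem_closure.mpr hw
  obtain ⟨_, ⟨U, hU, rfl⟩, hwU, -⟩ :=
    X.isBasis_affineOpens.exists_subset_of_mem_open (Set.mem_univ w) isOpen_univ
  replace hU : IsAffineOpen (U : X.Opens) := hU
  haveI : IsAffine (Scheme.Opens.toScheme U) := hU
  have hxU : x.pt ∈ U := hsp.mem_open U.2 hwU
  have hx : x ∈ Set.range (Pts.map (Scheme.Opens.ι U)) := by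
    rw [range_map_ι]
    exact hxU
  obtain ⟨x', rfl⟩ := hx
  have hcl := isClosed_singleton_pt_of_isAffine x'
  have h2 : x'.pt ⤳ (⟨w, hwU⟩ : U) := by
    rw [← (Scheme.Opens.ι U).isOpenEmbedding.isInducing.specializes_iff]
    rw [← Pts.pt_map]
    exact hsp
  have h3 : (⟨w, hwU⟩ : U) ∈ closure ({x'.pt} : Set U) := specializes_iff_mem_closure.mp h2
  rw [hcl.closure_eq] at h3
  have h4 : (⟨w, hwU⟩ : ↥(Scheme.Opens.toScheme U)) = x'.pt := Set.eq_of_mem_singleton h3
  show w = (Pts.map (Scheme.Opens.ι U) x').pt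
  rw [Pts.pt_map, ← h4]
  rfl

theorem S4187_main (X : Scheme.{0}) [X.Over SC] [LocallyOfFiniteType (X ↘ SC)] :
    DiscreteTopology ↥X ↔ DiscreteTopology (Pts X) := by
  constructor
  · intro h
    rw [discreteTopology_iff_isOpen_singleton]
    intro x
    have h1 : ({x} : Set (Pts X)) = Pts.pt ⁻¹' {x.pt} := by
      ext y
      simp only [Set.mem_singleton_iff, Set.mem_preimage]
      exact ⟨fun h => by rw [h], fun h => pt_injective X h⟩
    rw [h1]
    exact (isOpen_discrete _).preimage Pts.continuous_pt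
  · intro h
    haveI hN : IsLocallyNoetherian X := LocallyOfFiniteType.isLocallyNoetherian (X ↘ SC)
    rw [discreteTopology_iff_isOpen_singleton]
    have step1 : ∀ x : Pts X, IsOpen ({x.pt} : Set X) := by
      intro x
      have hcl := isClosed_singleton_pt X x
      have hlc : IsLocallyConstructible ({x.pt}ᶜ : Set X) :=
        isLocallyConstructible_of_isOpen _ hcl.isOpen_compl
      have key := S4188_main X _ hlc
      haveI := h
      rw [(isClosed_discrete (Pts.pt ⁻¹' ({x.pt}ᶜ : Set X))).closure_eq] at key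
      have hnot : x.pt ∉ closure ({x.pt}ᶜ : Set X) := by
        intro hmem
        have h2 : x ∈ Pts.pt ⁻¹' closure ({x.pt}ᶜ : Set X) := hmem
        rw [key] at h2
        exact h2 rfl
      have hcl2 : closure ({x.pt}ᶜ : Set X) = {x.pt}ᶜ := by
        apply Set.Subset.antisymm
        · intro w hw hwx
          rw [Set.mem_singleton_iff] at hwx
          rw [hwx] at hw
          exact hnot hw
        · exact subset_closure
      have h3 : IsClosed ({x.pt}ᶜ : Set X) := by
        rw [← hcl2]
        exact isClosed_closure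
      exact isClosed_compl_iff.mp h3
    intro p
    obtain ⟨y, hy⟩ := exists_pt_mem_of_isLocallyClosed X (closure {p})
      isClosed_closure.isLocallyClosed ⟨p, subset_closure rfl⟩
    have ho := step1 y
    obtain ⟨q, hq1, hq2⟩ := mem_closure_iff.mp hy _ ho rfl
    rw [Set.mem_singleton_iff] at hq1 hq2
    rw [← hq2, hq1]
    exact ho

variable {Y : Scheme.{0}} [Y.Over SC]

theorem exists_lift_of_mem_range (f : X ⟶ Y) [f.IsOver SC] [LocallyOfFiniteType f]
    (y : Pts Y) (hy : y.pt ∈ Set.range f) : ∃ x : Pts X, Pts.map f x = y := by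
  have hfY : f ≫ (Y ↘ SC) = X ↘ SC := comp_over f SC
  obtain ⟨p, hp⟩ := hy
  let Z := Limits.pullback f y.1
  let _ : Z.Over SC := ⟨Limits.pullback.snd f y.1⟩
  have h1 : LocallyOfFiniteType (Z ↘ SC) :=
    inferInstanceAs (LocallyOfFiniteType (Limits.pullback.snd f y.1))
  have hne : Nonempty Z := by
    have hp' : f p = y.1 cpt := hp
    obtain ⟨z, -, -⟩ := Scheme.Pullback.exists_preimage_pullback p cpt hp'
    exact ⟨z⟩
  obtain ⟨z⟩ := (Groth.Agent.S4186.result Z).1 hne
  have hz : z.1 ≫ Limits.pullback.snd f y.1 = 𝟙 SC := z.2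
  have hxy : (z.1 ≫ Limits.pullback.fst f y.1) ≫ f = y.1 := by
    rw [Category.assoc, Limits.pullback.condition, ← Category.assoc, hz, Category.id_comp]
  refine ⟨⟨z.1 ≫ Limits.pullback.fst f y.1, ?_⟩, Subtype.ext hxy⟩
  rw [← hfY, ← Category.assoc, hxy]
  exact y.2

theorem S4199_main (X Y : Scheme.{0}) [X.Over SC] [LocallyOfFiniteType (X ↘ SC)]
    [Y.Over SC] [LocallyOfFiniteType (Y ↘ SC)] (f : X ⟶ Y) [f.IsOver SC] [QuasiCompact f] :
    DenseRange f.base ↔ DenseRange (Pts.map f) := by
  have hfY : f ≫ (Y ↘ SC) = X ↘ SC := comp_over f SC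
  have hlft : LocallyOfFiniteType f := by
    have : LocallyOfFiniteType (f ≫ (Y ↘ SC)) := by rw [hfY]; infer_instance
    exact locallyOfFiniteType_of_comp f (Y ↘ SC)
  have hN : IsLocallyNoetherian Y := LocallyOfFiniteType.isLocallyNoetherian (Y ↘ SC)
  have hfp : LocallyOfFinitePresentation f := inferInstance
  have h0 : IsLocallyConstructible (Set.range f) := by
    have := f.isLocallyConstructible_image IsLocallyConstructible.univ
    rwa [Set.image_univ] at this
  have hrange : Set.range (Pts.map f) = Pts.pt ⁻¹' (Set.range f) := by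
    ext y
    constructor
    · rintro ⟨x, rfl⟩
      show (Pts.map f x).pt ∈ Set.range f
      rw [Pts.pt_map]
      exact ⟨x.pt, rfl⟩
    · intro hy
      exact exists_lift_of_mem_range f y hy
  show Dense (Set.range f) ↔ Dense (Set.range (Pts.map f))
  rw [hrange]
  exact S4190_main Y (Set.range f) h0

end Groth.Agent.Helper7.AnDense
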